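import Cfsg.Agent.GlaubermanZJ.NormalComplement
import Cfsg.Agent.Eq.Def_Transfer
import Mathlib.GroupTheory.SchurZassenhaus

/-!
For `p` odd, a group is `p`-nilpotent as soon as no element of order prime to `p` induces a nontrivial
automorphism on a subgroup of a Sylow subgroup `S` invariant under all automorphisms of `S`.
-/

set_option autoImplicit false

open Cfsg

namespace CfsgLib.AxThompson

universe u

/-- Invariance of `C` under all automorphisms of `S`. -/
def AutInvariant {G : Type*} [Group G] (S C : Subgroup G) : Prop :=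
  ∀ σ : MulAut S, ∀ x : S, (x : G) ∈ C → ((σ x : S) : G) ∈ C

theorem normalizer_le_of_autInvariant {G : Type*} [Group G] [Finite G] {S C : Subgroup G} (hCS : C ≤ S)
    (h : AutInvariant S C) : Subgroup.normalizer (S : Set G) ≤ Subgroup.normalizer (C : Set G) := by
  intro g hg
  rw [Subgroup.mem_normalizer_iff_map_conj_eq]
  refine Subgroup.eq_of_le_of_card_ge ?_
    (Subgroup.card_map_of_injective (MulAut.conj g).injective).ge
  rintro _ ⟨c, hc, rfl⟩
  exact h (S.normalizerMonoidHom ⟨g, hg⟩) ⟨c, hCS hc⟩ hc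

variable {p : ℕ} [Fact p.Prime]

theorem exists_coprime_lift {G H : Type*} [Group G] [Finite G] [Group H] (f : G →* H) (g : G)
    (hg : (orderOf (f g)).Coprime p) :
    ∃ n : ℕ, (orderOf (g ^ n)).Coprime p ∧ f g ∈ Subgroup.zpowers (f (g ^ n)) := by
  obtain ⟨a, m, hm, he⟩ := Nat.exists_eq_pow_mul_and_not_dvd (orderOf_pos g).ne' p (Fact.out : p.Prime).ne_one
  refine ⟨p ^ a, ?_, ?_⟩
  · rw [orderOf_pow_of_dvd (pow_ne_zero _ (Fact.out : p.Prime).ne_zero) (he ▸ dvd_mul_right _ _), he,
      Nat.mul_div_cancel_left _ (pow_pos (Fact.out : p.Prime).pos _)]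
    exact ((Fact.out : p.Prime).coprime_iff_not_dvd.2 hm).symm
  · rw [map_pow, mem_zpowers_pow_iff, Nat.gcd_comm]
    exact hg.pow_right a

/-- No element of order prime to `p` acts nontrivially on a subgroup invariant under `Aut S`. -/
def CharAutTrivial (p : ℕ) {G : Type*} [Group G] (S : Subgroup G) : Prop :=
  ∀ C : Subgroup G, C ≤ S → AutInvariant S C → ∀ g ∈ Subgroup.normalizer (C : Set G),
    (orderOf g).Coprime p → ∀ c ∈ C, g * c = c * g

omit [Fact p.Prime] in
theorem charAutTrivial_subgroup {G : Type*} [Group G] {S N : Subgroup G} (hSN : S ≤ N)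
    (h : CharAutTrivial p S) : CharAutTrivial p (S.subgroupOf N) := by
  intro C hC hinv g hg hgp c hc
  let e := Subgroup.subgroupOfEquivOfLe hSN
  refine Subtype.ext (h (C.map N.subtype) ?_ ?_ g ?_ (by rwa [Subgroup.orderOf_coe]) c ⟨c, hc, rfl⟩)
  · rintro _ ⟨x, hx, rfl⟩
    exact hC hx
  · intro σ x hx
    obtain ⟨y, hy, hyx⟩ := hx
    refine ⟨_, hinv (e.trans (σ.trans e.symm)) ⟨y, hC hy⟩ hy, ?_⟩
    have : e ⟨y, hC hy⟩ = x := Subtype.ext hyx
    show (((e.symm (σ (e ⟨y, hC hy⟩)) : S.subgroupOf N) : N) : G) = _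
    rw [this]
    rfl
  · exact Subgroup.le_normalizer_map N.subtype ⟨g, hg, rfl⟩

theorem charAutTrivial_quotient {G : Type*} [Group G] [Finite G] (S : Subgroup G) (W : Subgroup G) [W.Normal]
    (hWS : W ≤ S) (hW : AutInvariant S W) (h : CharAutTrivial p S) :
    CharAutTrivial p (S.map (QuotientGroup.mk' W)) := by
  intro C hC hinv g hg hgp c hc
  set f := QuotientGroup.mk' W with hf
  have hsurj := QuotientGroup.mk'_surjective W
  have hCS : C.comap f ≤ S := by
    refine (Subgroup.comap_mono hC).trans ?_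
    rw [Subgroup.comap_map_eq, hf, QuotientGroup.ker_mk']
    exact sup_le le_rfl hWS
  have hinv' : AutInvariant S (C.comap f) := by
    intro σ x hx
    let π : S →* S.map f := (f.comp S.subtype).codRestrict _ fun y => ⟨y, y.2, rfl⟩
    have hπ : Function.Surjective π := by
      rintro ⟨_, y, hy, rfl⟩
      exact ⟨⟨y, hy⟩, rfl⟩
    have hker : π.ker = W.subgroupOf S := by
      ext y
      simp [π, hf, Subgroup.mem_subgroupOf]
    have hσ : (W.subgroupOf S).map σ.toMonoidHom = W.subgroupOf S := by
      refine Subgroup.eq_of_le_of_card_ge ?_ (Subgroup.card_map_of_injective σ.injective).ge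
      rintro _ ⟨y, hy, rfl⟩
      exact hW σ y hy
    let e := (QuotientGroup.quotientMulEquivOfEq hker.symm).trans
      (QuotientGroup.quotientKerEquivOfSurjective π hπ)
    let τ : MulAut (S.map f) := e.symm.trans ((QuotientGroup.congr _ _ σ hσ).trans e)
    have hτ : τ (π x) = π (σ x) := by
      show e (QuotientGroup.congr _ _ σ hσ (e.symm (π x))) = _
      rw [show π x = e (QuotientGroup.mk x) from rfl, MulEquiv.symm_apply_apply]
      rfl
    have := hinv τ (π x) hx
    rwa [hτ] at this
  obtain ⟨g₀, rfl⟩ := hsurj g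
  obtain ⟨c₀, rfl⟩ := hsurj c
  obtain ⟨n, hn, hmem⟩ := exists_coprime_lift f g₀ hgp
  have hg₀ : g₀ ∈ Subgroup.normalizer ((C.comap f : Subgroup G) : Set G) := by
    rw [← Subgroup.comap_normalizer_eq_of_surjective _ hsurj]
    exact hg
  have hcomm := h _ hCS hinv' _ (pow_mem hg₀ n) hn c₀ hc
  obtain ⟨k, hk⟩ := Subgroup.mem_zpowers_iff.1 hmem
  rw [← hk]
  exact (Commute.zpow_left (show Commute (f (g₀ ^ n)) (f c₀) from (by
    rw [Commute, SemiconjBy, ← map_mul, ← map_mul, hcomm])) k).eq

theorem hasNormalPComplement_of_charAutTrivial (hp : p ≠ 2) :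
    ∀ (n : ℕ) (G : Type u) [Group G] [Finite G], Nat.card G = n → ∀ S : Sylow p G,
      CharAutTrivial p (S : Subgroup G) → HasNormalPComplement p G := by
  intro n
  induction n using Nat.strong_induction_on with
  | _ n IH =>
  intro G _ _ hn S h
  let F := CfsgLib.GlaubermanZJ.abelianCenter.{u} p
  by_cases hS1 : (S : Subgroup G) = ⊥
  · refine CfsgLib.Transfer.hasNormalPComplement_of_not_dvd ?_
    have h1 := S.not_dvd_index
    rwa [hS1, Subgroup.index_bot] at h1
  set W := F.obj G (S : Subgroup G) with hWdef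
  have hWS : W ≤ (S : Subgroup G) := F.obj_le G _
  have hW1 : W ≠ ⊥ := F.obj_ne_bot G _ S.2 hS1
  have hWinv : AutInvariant (S : Subgroup G) W := by
    intro σ x hx
    have e1 : (F.obj (S : Subgroup G) ⊤).map (S : Subgroup G).subtype = W := by
      rw [F.map_subtype_obj, ← MonoidHom.range_eq_map, Subgroup.range_subtype]
    have e2 : (F.obj (S : Subgroup G) ⊤).map σ.toMonoidHom = F.obj (S : Subgroup G) ⊤ := by
      rw [F.obj_map _ _ σ.toMonoidHom ⊤ (σ.injective.comp (⊤ : Subgroup (S : Subgroup G)).subtype_injective),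
        Subgroup.map_top_of_surjective _ σ.surjective]
    rw [← e1] at hx ⊢
    obtain ⟨y, hy, hyx⟩ := hx
    obtain rfl := Subtype.ext hyx
    exact ⟨σ y, e2 ▸ ⟨y, hy, rfl⟩, rfl⟩
  set N := Subgroup.normalizer (W : Set G) with hN
  by_cases hNtop : N = ⊤
  swap
  · have hSN : (S : Subgroup G) ≤ N :=
      Subgroup.le_normalizer.trans (normalizer_le_of_autInvariant hWS hWinv)
    have hlt : Nat.card N < n := by
      rw [← hn]
      exact lt_of_le_of_ne (Subgroup.card_le_card_group N) fun he => hNtop (Subgroup.eq_top_of_card_eq N he)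
    exact CfsgLib.GlaubermanZJ.hasNormalPComplement_of_obj hp F S
      (IH _ hlt N rfl (S.subtype hSN) (by rw [Sylow.coe_subtype]; exact charAutTrivial_subgroup hSN h))
  haveI hWn : W.Normal := Subgroup.normalizer_eq_top_iff.1 hNtop
  have hlt : Nat.card (G ⧸ W) < n := by
    rw [← hn, Subgroup.card_eq_card_quotient_mul_card_subgroup W]
    refine lt_mul_of_one_lt_right Nat.card_pos ?_
    rw [Finite.one_lt_card_iff_nontrivial, Subgroup.nontrivial_iff_ne_bot]
    exact hW1
  have hq : HasNormalPComplement p (G ⧸ W) :=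
    IH _ hlt (G ⧸ W) rfl (S.mapSurjective (f := QuotientGroup.mk' W) (QuotientGroup.mk'_surjective W))
      (by rw [Sylow.coe_mapSurjective]; exact charAutTrivial_quotient _ W hWS hWinv h)
  set O := pResidual p G with hO
  -- `O` centralizes `W` and maps to a group of order prime to `p`
  have hcent : ∀ o ∈ O, ∀ w ∈ W, o * w = w * o := by
    intro o ho w hw
    have : O ≤ Subgroup.centralizer ({w} : Set G) := by
      rw [hO, pResidual, Subgroup.closure_le]
      intro g hg
      exact Subgroup.mem_centralizer_singleton_iff.2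
        (h W hWS hWinv g (Subgroup.normalizer_eq_top_iff.2 hWn ▸ Subgroup.mem_top g) hg w hw)
    exact Subgroup.mem_centralizer_singleton_iff.1 (this ho)
  have hOf : O.map (QuotientGroup.mk' W) ≤ pResidual p (G ⧸ W) := by
    rw [hO, pResidual, MonoidHom.map_closure, pResidual]
    refine Subgroup.closure_mono ?_
    rintro _ ⟨g, hg, rfl⟩
    exact Nat.Coprime.coprime_dvd_left (orderOf_map_dvd _ g) hg
  have hc : (Nat.card (O.map (QuotientGroup.mk' W))).Coprime p :=
    (CfsgLib.Transfer.hasNormalPComplement_iff_coprime_pResidual.mp hq).coprime_dvd_left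
      (Subgroup.card_dvd_of_le hOf)
  have hidx : (W.subgroupOf O).index = Nat.card (O.map (QuotientGroup.mk' W)) := by
    have h1 : W.subgroupOf O = ((QuotientGroup.mk' W).comp O.subtype).ker := by
      ext y; simp [Subgroup.mem_subgroupOf]
    rw [h1, Subgroup.index_ker, MonoidHom.range_comp, Subgroup.range_subtype]
  obtain ⟨k, hk⟩ := IsPGroup.iff_card.1
    ((S.2.to_le hWS).comap_of_injective O.subtype O.subtype_injective : IsPGroup p (W.subgroupOf O))
  obtain ⟨X, hX⟩ := Subgroup.exists_right_complement'_of_coprime (N := W.subgroupOf O)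
    (by rw [show Nat.card (W.subgroupOf O) = p ^ k from hk, hidx]; exact hc.symm.pow_left k)
  have hXc : Nat.card X = Nat.card (O.map (QuotientGroup.mk' W)) := by
    rw [← hidx]; exact hX.symm.index_eq_card.symm
  have hgen : O ≤ X.map O.subtype := by
    conv_lhs => rw [hO, pResidual]
    rw [Subgroup.closure_le]
    intro g hg
    have hgO : g ∈ O := Subgroup.subset_closure hg
    obtain ⟨⟨⟨w, hw⟩, ⟨x, hx⟩⟩, he⟩ := hX.2 ⟨g, hgO⟩
    have he' : (w : G) * (x : G) = g := congrArg Subtype.val he
    have hwx : Commute (w : G) (x : G) := (hcent x x.2 w hw).symm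
    have hx1 : (x : G) ^ Nat.card X = 1 := by
      have : (⟨x, hx⟩ : X) ^ Nat.card X = 1 := pow_card_eq_one'
      exact congrArg (fun y : X => ((y : O) : G)) this
    have hw1 : (w : G) = 1 := by
      have h1 : g ^ Nat.card X = (w : G) ^ Nat.card X := by rw [← he', hwx.mul_pow, hx1, mul_one]
      have hwp : orderOf (w : G) ∣ p ^ k := by
        rw [← show Nat.card (W.subgroupOf O) = p ^ k from hk]
        have : orderOf (⟨w, hw⟩ : W.subgroupOf O) ∣ Nat.card (W.subgroupOf O) := orderOf_dvd_natCard _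
        rwa [← Subgroup.orderOf_coe, ← Subgroup.orderOf_coe] at this
      have h2 : orderOf ((w : G) ^ Nat.card X) = 1 := by
        refine Nat.eq_one_of_dvd_coprimes ((show (orderOf g).Coprime p from hg).pow_right k) ?_
          ((orderOf_pow_dvd _).trans hwp)
        rw [← h1]; exact orderOf_pow_dvd _
      rw [orderOf_eq_one_iff] at h2
      rw [← orderOf_eq_one_iff]
      exact Nat.eq_one_of_dvd_coprimes ((hXc ▸ hc).pow_right k)
        (orderOf_dvd_of_pow_eq_one h2) hwp
    refine ⟨x, hx, ?_⟩
    show (x : G) = g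
    rw [← he', hw1, one_mul]
  refine CfsgLib.Transfer.hasNormalPComplement_iff_coprime_pResidual.mpr ?_
  have hle : Nat.card O ∣ Nat.card X := by
    have := Subgroup.card_dvd_of_le hgen
    rwa [Subgroup.card_map_of_injective O.subtype_injective] at this
  exact (hXc ▸ hc).coprime_dvd_left hle

end CfsgLib.AxThompson
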