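import Cfsg.Agent.AxiomThompson.CharAut
import Cfsg.Agent.FusModel.Local
import Cfsg.Agent.Fusion.Alperin.Criteria
import Cfsg.Agent.Fus.Centric
import Cfsg.Agent.FusAut.Basic

/-!
For `p` odd, a saturated fusion system which is not the inner one has a centric subgroup normal in `S` whose
automizer is not a `p`-group; its local model has a Sylow subgroup isomorphic to `S`.
-/

set_option autoImplicit false

namespace CfsgLib.AxThompson

open Cfsg Cfsg.FusionSystem CfsgLib.Fus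

universe u

variable {Ω : Type u} [Group Ω] {S : Subgroup Ω} {p : ℕ} [Fact p.Prime]

/-- Transport of conjugation along an injective homomorphism. -/
theorem exists_conjBack {N : Subgroup Ω} {L : Type*} [Group L] {ι : N →* L} (hι : Function.Injective ι)
    {C : Subgroup Ω} (hC : C ≤ N) {g : L}
    (h : ∀ x : C, g * ι ⟨x, hC x.2⟩ * g⁻¹ ∈ ι.range) :
    ∃ θ : C →* N, ∀ x, ι (θ x) = g * ι ⟨x, hC x.2⟩ * g⁻¹ := by
  refine ⟨(MonoidHom.ofInjective hι).symm.toMonoidHom.comp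
    (((MulAut.conj g).toMonoidHom.comp (ι.comp (Subgroup.inclusion hC))).codRestrict ι.range h), fun x => ?_⟩
  show ι ((MonoidHom.ofInjective hι).symm ⟨_, h x⟩) = _
  rw [MonoidHom.apply_ofInjective_symm]

theorem conj_iterate {N : Subgroup Ω} {L : Type*} [Group L] (ι : N →* L)
    {C : Subgroup Ω} (hC : C ≤ N) {g : L} {α : MulAut C}
    (h : ∀ x : C, ι ⟨(α x : C), hC (α x).2⟩ = g * ι ⟨x, hC x.2⟩ * g⁻¹) :
    ∀ (n : ℕ) (x : C), ι ⟨((α ^ n) x : C), hC ((α ^ n) x).2⟩ = g ^ n * ι ⟨x, hC x.2⟩ * (g ^ n)⁻¹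
  | 0, x => by simp
  | n + 1, x => by
    have := conj_iterate ι hC h n (α x)
    simp only [pow_succ, MulAut.mul_apply]
    rw [this, h]
    group

theorem pow_eq_one_of_conj {N : Subgroup Ω} {L : Type*} [Group L] {ι : N →* L} (hι : Function.Injective ι)
    {C : Subgroup Ω} (hC : C ≤ N) {g : L} {α : MulAut C}
    (h : ∀ x : C, ι ⟨(α x : C), hC (α x).2⟩ = g * ι ⟨x, hC x.2⟩ * g⁻¹) {n : ℕ} (hn : g ^ n = 1) :
    α ^ n = 1 := by
  refine MulEquiv.ext fun x => Subtype.ext ?_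
  have h1 := conj_iterate ι hC h n x
  rw [hn, one_mul, inv_one, mul_one] at h1
  have h2 := congrArg Subtype.val (hι h1)
  exact h2

variable [Finite S] {F : Cfsg.FusionSystem S}

omit [Fact p.Prime] [Finite S] in
/-- A centric subgroup with an automizer which is not a `p`-group gives a model which is not a `p`-group. -/
theorem not_isPGroup_model {R : Subgroup Ω} (hR : R ≤ S) (hbad : ¬ IsPGroup p (F.autGroup R))
    {L : Type u} [Group L] {ι : normalizerIn S R →* L} (hmod : (normalizerSystem F R hR).IsModel p L ι) :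
    ¬ IsPGroup p L := by
  intro hL
  refine hbad fun a => ?_
  obtain ⟨α, hα⟩ := a
  have hRN := le_normalizerIn hR
  have hφ : R.subtype.comp α.toMonoidHom ∈ F.Hom R := (mem_autGroup_iff F hR).1 hα
  have hE : R.subtype.comp α.toMonoidHom ∈ (normalizerSystem F R hR).Hom R := by
    refine ⟨hφ, hRN, fun x => hRN (α x).2,
      (R.subtype.comp α.toMonoidHom).comp (Subgroup.inclusion (sup_idem R).le), restrict_mem F hφ _,
      fun x => rfl, ?_⟩
    ext z
    constructor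
    · rintro ⟨x, -, rfl⟩
      exact (α _).2
    · intro hz
      exact ⟨⟨(α.symm ⟨z, hz⟩ : R), Subgroup.mem_sup_left (α.symm ⟨z, hz⟩).2⟩, (α.symm ⟨z, hz⟩).2,
        congrArg Subtype.val (α.apply_symm_apply ⟨z, hz⟩)⟩
  obtain ⟨g, hg⟩ := (hmod.2.1.2 R hRN _ fun x => hRN (α x).2).1 hE
  obtain ⟨k, hk⟩ := hL g
  exact ⟨k, Subtype.ext (pow_eq_one_of_conj hmod.2.1.1 hRN (α := α) hg hk)⟩

theorem exists_centric_bad (hS : IsPGroup p S) (hF : F.IsSaturated p)
    (h : ¬ ∀ P : Subgroup Ω, F.Hom P = (Cfsg.innerFusionSystem S).Hom P) :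
    ∃ R : Subgroup Ω, F.IsCentric R ∧ ¬ IsPGroup p (F.autGroup R) := by
  by_contra hno
  push Not at hno
  exact h fun P => Fusion.Alperin.eq_inner_of_autGroup_le hS hF
    (fun R hR => CfsgLib.FusAut.autGroup_le_autInducedBy (fullyNormalized_props hS hF hR.fullyNormalized).1
      (hno R hR.centric)) P

/-- The subgroup `C · C_S(C)` of a fully centralized `C` is centric. -/
theorem isCentric_sup_centralizerIn {C : Subgroup Ω} (hC : F.IsFullyCentralized C) :
    F.IsCentric (C ⊔ centralizerIn S C) := by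
  refine ⟨sup_le hC.1 (centralizerIn_le C), ?_⟩
  rintro Q ⟨ψ, hψ, rfl⟩ y hy
  have hres := restrict_mem F hψ (le_sup_left : C ≤ C ⊔ centralizerIn S C)
  set C₂ := (ψ.comp (Subgroup.inclusion (le_sup_left : C ≤ C ⊔ centralizerIn S C))).range with hC₂
  have : Finite (centralizerIn S C₂) := finite_of_le (centralizerIn_le C₂)
  have hy' : y ∈ centralizerIn S C₂ := by
    refine centralizerIn_antitone ?_ hy
    rintro _ ⟨x, rfl⟩
    exact ⟨_, rfl⟩
  obtain ⟨g, -, hg⟩ := exists_preimage_of_card (F.injective_of_mem hψ)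
    (le_sup_right : centralizerIn S C ≤ C ⊔ centralizerIn S C)
    (fun g hg => map_mem_centralizerIn (Q := C₂) rfl hψ le_sup_left (fun _ => rfl) hg.2)
    (hC.2 C₂ ⟨_, hres, rfl⟩) hy'
  exact ⟨g, hg⟩

/-- The main existence statement. -/
theorem exists_normal_centric_bad (hp : p ≠ 2) (hS : IsPGroup p S) (hF : F.IsSaturated p)
    (h : ¬ ∀ P : Subgroup Ω, F.Hom P = (Cfsg.innerFusionSystem S).Hom P) :
    ∃ Q : Subgroup Ω, F.IsCentric Q ∧ F.IsFullyNormalized Q ∧ normalizerIn S Q = S ∧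
      ¬ IsPGroup p (F.autGroup Q) := by
  classical
  obtain ⟨R₀, hR₀c, hR₀b⟩ := exists_centric_bad hS hF h
  -- transport to fully normalized conjugates
  have htrans : ∀ V : Subgroup Ω, F.IsCentric V → ¬ IsPGroup p (F.autGroup V) →
      ∃ V' : Subgroup Ω, (F.IsCentric V' ∧ F.IsFullyNormalized V' ∧ ¬ IsPGroup p (F.autGroup V')) ∧
        Nat.card (normalizerIn S V) ≤ Nat.card (normalizerIn S V') := by
    intro V hV hVb
    obtain ⟨V', ⟨ρ, hρ, hr⟩, hV'⟩ := exists_fullyNormalized F hV.1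
    refine ⟨V', ⟨isCentric_of_isConj hV ⟨ρ, hρ, hr⟩, hV', fun hp' => hVb fun a => ?_⟩,
      hV'.2 V (isConj_symm ⟨ρ, hρ, hr⟩)⟩
    obtain ⟨α, hα⟩ := a
    obtain ⟨k, hk⟩ := hp' ⟨_, congr_mem_autGroup hρ hr hα⟩
    refine ⟨k, Subtype.ext ((MulAut.congr (isoOf hρ hr)).injective ?_)⟩
    show MulAut.congr (isoOf hρ hr) (α ^ p ^ k) = MulAut.congr (isoOf hρ hr) 1
    rw [map_one]
    exact (map_pow (MulAut.congr (isoOf hρ hr)) α _).trans (congrArg Subtype.val hk)
  obtain ⟨R₁, hR₁, -⟩ := htrans R₀ hR₀c hR₀b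
  haveI : Finite {R : Subgroup Ω // R ≤ S} :=
    Finite.of_injective (fun R => R.1.subgroupOf S) fun A B hAB => Subtype.ext (by
      have := congrArg (Subgroup.map S.subtype) hAB
      rwa [Subgroup.map_subgroupOf_eq_of_le A.2, Subgroup.map_subgroupOf_eq_of_le B.2] at this)
  obtain ⟨⟨R, hRS⟩, ⟨hRc, hRn, hRb⟩, hmax⟩ := Set.exists_max_image
    {R : {R : Subgroup Ω // R ≤ S} | F.IsCentric R.1 ∧ F.IsFullyNormalized R.1 ∧ ¬ IsPGroup p (F.autGroup R.1)}
    (fun R => Nat.card (normalizerIn S R.1)) (Set.toFinite _) ⟨⟨R₁, hR₁.1.1⟩, hR₁⟩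
  refine ⟨R, hRc, hRn, ?_, hRb⟩
  by_contra hne
  set P := normalizerIn S R with hP
  have hPS : P ≤ S := normalizerIn_le R
  haveI : Finite P := finite_of_le hPS
  obtain ⟨L, _, ι, hmod⟩ := CfsgLib.FusModel.exists_local_model hS hF hRn hRc
  have hnp := not_isPGroup_model (F := F) hRn.1 hRb hmod
  obtain ⟨hfin, ⟨hinj, hreal⟩, ⟨T, hT⟩, hcon⟩ := id hmod
  haveI := hfin
  -- an element of order prime to `p` acting nontrivially
  obtain ⟨C, hCT, hCinv, g, hgN, hgp, c, hc, hgc⟩ : ∃ C : Subgroup L, C ≤ ι.range ∧ AutInvariant ι.range C ∧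
      ∃ g ∈ Subgroup.normalizer (C : Set L), (orderOf g).Coprime p ∧ ∃ c ∈ C, g * c ≠ c * g := by
    by_contra hno
    push Not at hno
    have hnpc : HasNormalPComplement p L :=
      hasNormalPComplement_of_charAutTrivial hp _ L rfl T (by
        rw [hT]
        exact fun C hC hinv g hg hgp c hc => hno C hC hinv g hg hgp c hc)
    refine hnp ?_
    set O := pResidual p L with hO
    haveI : O.Normal := CfsgLib.CharP.pResidual_normal
    have hOc := CfsgLib.Transfer.hasNormalPComplement_iff_coprime_pResidual.mp hnpc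
    haveI : (pCore p L).Normal := pCore_normal p L
    have hdisj : Disjoint (pCore p L) O := by
      rw [Subgroup.disjoint_def]
      exact fun hx hy => CfsgLib.Transfer.eq_one_of_mem_pGroup_of_coprime
        CfsgLib.LocalP.isPGroup_pCore hx (hOc.coprime_dvd_left (Subgroup.orderOf_dvd_natCard _ hy))
    have hO1 : O = ⊥ := by
      rw [eq_bot_iff]
      intro o ho
      refine Subgroup.disjoint_def.mp hdisj (hcon (Subgroup.mem_centralizer_iff.mpr fun q hq => ?_)) ho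
      exact (Subgroup.commute_of_normal_of_disjoint _ _ inferInstance inferInstance hdisj q o hq ho).eq
    have h2 : IsPGroup p (L ⧸ (⊥ : Subgroup L)) := CfsgLib.CharP.isPGroup_quotient_pResidual _ hO1.le
    exact h2.of_equiv QuotientGroup.quotientBot
  set C₀ : Subgroup Ω := (C.comap ι).map P.subtype with hC₀
  have hC₀P : C₀ ≤ P := Subgroup.map_subtype_le _
  have hmemC : ∀ x : C₀, ι ⟨x, hC₀P x.2⟩ ∈ C := by
    rintro ⟨_, y, hy, rfl⟩
    exact hy
  have hrange : ∀ x : C₀, g * ι ⟨x, hC₀P x.2⟩ * g⁻¹ ∈ ι.range := fun x =>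
    hCT ((Subgroup.mem_normalizer_iff.1 hgN _).1 (hmemC x))
  obtain ⟨θ, hθ⟩ := exists_conjBack hinj hC₀P hrange
  have hθC : ∀ x, (θ x : Ω) ∈ C₀ := fun x => ⟨θ x, by
    show ι (θ x) ∈ C
    rw [hθ]
    exact (Subgroup.mem_normalizer_iff.1 hgN _).1 (hmemC x), rfl⟩
  have hφ : P.subtype.comp θ ∈ F.Hom C₀ :=
    ((hreal C₀ hC₀P (P.subtype.comp θ) fun x => (θ x).2).2 ⟨g, fun x => hθ x⟩).1
  haveI : Finite C₀ := finite_of_le hC₀P
  have hr : (P.subtype.comp θ).range = C₀ := by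
    refine Subgroup.eq_of_le_of_card_ge (by rintro _ ⟨x, rfl⟩; exact hθC x) ?_
    exact le_of_eq (Nat.card_congr (MonoidHom.ofInjective (F.injective_of_mem hφ)).toEquiv)
  have hC₀S : C₀ ≤ S := hC₀P.trans hPS
  set β : MulAut C₀ := isoOf hφ hr with hβ
  have hβconj : ∀ x : C₀, ι ⟨(β x : C₀), hC₀P (β x).2⟩ = g * ι ⟨x, hC₀P x.2⟩ * g⁻¹ := fun x => by
    rw [show (⟨(β x : C₀), hC₀P (β x).2⟩ : P) = θ x from Subtype.ext rfl]
    exact hθ x
  have hβb : ¬ ∃ k : ℕ, β ^ p ^ k = 1 := by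
    rintro ⟨k, hk⟩
    have h1 : β ^ orderOf g = 1 := pow_eq_one_of_conj hinj hC₀P hβconj (pow_orderOf_eq_one g)
    have hβ1 : β = 1 := by
      rw [← orderOf_eq_one_iff]
      exact Nat.eq_one_of_dvd_coprimes (hgp.pow_right k) (orderOf_dvd_of_pow_eq_one h1)
        (orderOf_dvd_of_pow_eq_one hk)
    refine hgc ?_
    obtain ⟨y, rfl⟩ := hCT hc
    have h2 := hβconj ⟨(y : Ω), y, hc, rfl⟩
    rw [hβ1] at h2
    exact (eq_mul_inv_iff_mul_eq.1 h2).symm
  -- `N_S(P)` normalizes `C₀`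
  have hNP : normalizerIn S P ≤ normalizerIn S C₀ := by
    rintro s ⟨hsS, hs⟩
    refine ⟨hsS, ?_⟩
    show s ∈ Subgroup.normalizer (C₀ : Set Ω)
    rw [Subgroup.mem_normalizer_iff_map_conj_eq]
    refine Subgroup.eq_of_le_of_card_ge ?_
      (Subgroup.card_map_of_injective (MulAut.conj s).injective).ge
    rintro _ ⟨x, hx, rfl⟩
    let σ : MulAut P := P.normalizerMonoidHom ⟨s, hs⟩
    let e := MonoidHom.ofInjective hinj
    have h3 := hCinv (e.symm.trans (σ.trans e)) (e ⟨x, hC₀P hx⟩) (hmemC ⟨x, hx⟩)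
    refine ⟨σ ⟨x, hC₀P hx⟩, ?_, rfl⟩
    show ι (σ ⟨x, hC₀P hx⟩) ∈ C
    simpa [e, MonoidHom.ofInjective_apply] using h3
  obtain ⟨s, hs, hsP⟩ := Fusion.Alperin.exists_normalizing_not_mem hS hPS hne
  have hlt : Nat.card P < Nat.card (normalizerIn S P) :=
    Fusion.Alperin.card_lt_of_le_of_mem (normalizerIn_le P) (le_normalizerIn hPS) hs hsP
  have : Finite (normalizerIn S C₀) := finite_of_le (normalizerIn_le C₀)
  have hle : Nat.card (normalizerIn S P) ≤ Nat.card (normalizerIn S C₀) :=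
    Subgroup.card_le_of_le hNP
  -- pass to a fully normalized conjugate and extend to a centric subgroup
  obtain ⟨C₁, ⟨ρ, hρ, hρr⟩, hC₁⟩ := exists_fullyNormalized F hC₀S
  set β₁ : MulAut C₁ := MulAut.congr (isoOf hρ hρr) β with hβ₁
  have hβ₁F : β₁ ∈ F.autGroup C₁ := congr_mem_autGroup hρ hρr (isoOf_mem_autGroup hφ hr)
  have hrec := (fullyNormalized_props hS hF hC₁).2
  have hfc : F.IsFullyCentralized C₁ := isFullyCentralized_of_receptive hrec
  set U := C₁ ⊔ centralizerIn S C₁ with hU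
  have hUc : F.IsCentric U := isCentric_sup_centralizerIn hfc
  have hφ₁ : C₁.subtype.comp β₁.toMonoidHom ∈ F.Hom C₁ := (mem_autGroup_iff F hC₁.1).1 hβ₁F
  have hr₁ : (C₁.subtype.comp β₁.toMonoidHom).range = C₁ := range_subtype_comp β₁
  obtain ⟨ψ, hψ, hext⟩ := hrec.2 C₁ _ hφ₁ hr₁
  have hUle : U ≤ extender S C₁ (C₁.subtype.comp β₁.toMonoidHom) :=
    sup_le (le_extender F hφ₁) centralizerIn_le_extender
  set χ := ψ.comp (Subgroup.inclusion hUle) with hχ
  have hχF : χ ∈ F.Hom U := restrict_mem F hψ hUle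
  have hχC : ∀ x : C₁, χ (Subgroup.inclusion le_sup_left x) = ((β₁ x : C₁) : Ω) := fun x =>
    hext x x.2 _
  have hχU : χ.range = U := by
    haveI : Finite U := finite_of_le hUc.1
    refine Subgroup.eq_of_le_of_card_ge ?_
      (le_of_eq (Nat.card_congr (MonoidHom.ofInjective (F.injective_of_mem hχF)).toEquiv))
    rw [MonoidHom.range_eq_map]
    have htop : (⊤ : Subgroup U) = C₁.subgroupOf U ⊔ (centralizerIn S C₁).subgroupOf U := by
      rw [← Subgroup.subgroupOf_sup le_sup_left le_sup_right, Subgroup.subgroupOf_self]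
    rw [htop, Subgroup.map_sup]
    refine sup_le_sup ?_ ?_
    · rintro _ ⟨x, hx, rfl⟩
      exact (hχC ⟨x, hx⟩) ▸ (β₁ ⟨x, hx⟩).2
    · rintro _ ⟨x, hx, rfl⟩
      exact map_mem_centralizerIn hr₁ hχF le_sup_left hχC fun y hy => hx.2 y hy
  have hUbad : ¬ IsPGroup p (F.autGroup U) := by
    intro hUp
    obtain ⟨k, hk⟩ := hUp ⟨_, isoOf_mem_autGroup hχF hχU⟩
    have hk' : (isoOf hχF hχU : MulAut U) ^ p ^ k = 1 := congrArg Subtype.val hk
    have hit : ∀ (n : ℕ) (x : C₁), ((isoOf hχF hχU : MulAut U) ^ n) (Subgroup.inclusion le_sup_left x) =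
        Subgroup.inclusion le_sup_left ((β₁ ^ n) x) := by
      intro n
      induction n with
      | zero => intro x; simp
      | succ n ih =>
        intro x
        rw [pow_succ, pow_succ, MulAut.mul_apply, MulAut.mul_apply, ← ih (β₁ x)]
        exact congrArg _ (Subtype.ext (hχC x))
    have hb : β₁ ^ p ^ k = 1 := by
      ext x
      have := hit (p ^ k) x
      rw [hk', MulAut.one_apply] at this
      exact (congrArg (fun u : U => (u : Ω)) this).symm
    refine hβb ⟨k, (MulAut.congr (isoOf hρ hρr)).injective ?_⟩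
    rw [map_pow, map_one]
    exact hb
  have hNU : normalizerIn S C₁ ≤ normalizerIn S U := by
    rintro t ⟨htS, ht⟩
    refine ⟨htS, ?_⟩
    show t ∈ Subgroup.normalizer (U : Set Ω)
    rw [Subgroup.mem_normalizer_iff_map_conj_eq, hU, Subgroup.map_sup,
      Subgroup.mem_normalizer_iff_map_conj_eq.1 ht]
    congr 1
    have : Finite (centralizerIn S C₁) := finite_of_le (centralizerIn_le C₁)
    refine Subgroup.eq_of_le_of_card_ge ?_
      (Subgroup.card_map_of_injective (MulAut.conj t).injective).ge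
    rintro _ ⟨x, hx, rfl⟩
    refine ⟨S.mul_mem (S.mul_mem htS hx.1) (S.inv_mem htS), fun y hy => ?_⟩
    have h1 : t⁻¹ * y * t ∈ C₁ := by
      have := (Subgroup.mem_normalizer_iff.1 (inv_mem ht : t⁻¹ ∈ Subgroup.normalizer (C₁ : Set Ω)) y).1 hy
      simpa using this
    have h2 := hx.2 _ h1
    show y * (t * x * t⁻¹) = t * x * t⁻¹ * y
    calc y * (t * x * t⁻¹) = t * ((t⁻¹ * y * t) * x) * t⁻¹ := by group
      _ = t * (x * (t⁻¹ * y * t)) * t⁻¹ := by rw [h2]
      _ = t * x * t⁻¹ * y := by group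
  obtain ⟨U', hU', hUU'⟩ := htrans U hUc hUbad
  have : Finite (normalizerIn S U) := finite_of_le (normalizerIn_le U)
  have h1 := hC₁.2 C₀ (isConj_symm ⟨ρ, hρ, hρr⟩)
  have h2 : Nat.card (normalizerIn S C₁) ≤ Nat.card (normalizerIn S U) := Subgroup.card_le_of_le hNU
  have h3 := hmax ⟨U', hU'.1.1⟩ hU'
  dsimp only at h3
  omega

end CfsgLib.AxThompson
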