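import Cfsg.Agent.GlaubermanZJ.NormalComplement

/-!
The group-theoretic core of the axiomatic normal `p`-complement theorem: a constrained group with maximal
Sylow `p`-subgroup `S` cannot have `S` as the normalizer of the intersection of a family of abelian subgroups
satisfying the invariance and replacement axioms.
-/

set_option autoImplicit false

open Cfsg
open scoped commutatorElement

namespace CfsgLib.AxThompson

universe u

variable {p : ℕ} [Fact p.Prime]

/-- The intersection of the members of the family inside `Q`. -/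
def interIn {L : Type*} [Group L] (𝒜 : Set (Subgroup L)) (Q : Subgroup L) : Subgroup L :=
  sInf {A | A ∈ 𝒜 ∧ A ≤ Q}

theorem false_of_coatom (hp : p ≠ 2) {L : Type u} [Group L] [Finite L]
    (hcon : Subgroup.centralizer (pCore p L : Set L) ≤ pCore p L)
    (S : Sylow p L) (hco : IsCoatom (S : Subgroup L))
    (𝒜 : Set (Subgroup L)) (hA : ∀ A ∈ 𝒜, A ≤ (S : Subgroup L) ∧ IsMulCommutative A) (hne : 𝒜.Nonempty)
    (hinv : ∀ Q : Subgroup L, Q ≤ (S : Subgroup L) → (∃ A ∈ 𝒜, A ≤ Q) →
      ∀ l ∈ Subgroup.normalizer (Q : Set L), ∀ x ∈ interIn 𝒜 Q, l * x * l⁻¹ ∈ interIn 𝒜 Q)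
    (hrep : ∀ B : Subgroup L, B ≤ (S : Subgroup L) → ⁅⁅B, B⁆, B⁆ = ⊥ →
      (∃ A ∈ 𝒜, ⁅B, B⁆ ≤ A ∧ ¬ B ≤ A) →
      ∃ A ∈ 𝒜, ⁅B, B⁆ ≤ A ∧ ¬ B ≤ A ∧ B ≤ Subgroup.normalizer (A : Set L))
    (hN : IsPGroup p (Subgroup.normalizer ((sInf 𝒜 : Subgroup L) : Set L))) : False := by
  classical
  have hS : IsPGroup p (S : Subgroup L) := S.2
  set W := sInf 𝒜 with hWdef
  have hWA : ∀ A ∈ 𝒜, W ≤ A := fun A h => sInf_le h
  obtain ⟨A₀, hA₀⟩ := hne
  have hWS : W ≤ (S : Subgroup L) := (hWA A₀ hA₀).trans (hA A₀ hA₀).1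
  have hWI : W = interIn 𝒜 (S : Subgroup L) := by
    rw [hWdef, interIn]
    congr 1
    ext A
    exact ⟨fun h => ⟨h, (hA A h).1⟩, fun h => h.1⟩
  have hWab : ∀ x ∈ W, ∀ y ∈ W, x * y = y * x := by
    intro x hx y hy
    exact congrArg Subtype.val
      ((hA A₀ hA₀).2.is_comm.comm ⟨x, hWA A₀ hA₀ hx⟩ ⟨y, hWA A₀ hA₀ hy⟩)
  have hNS : ∀ l ∈ Subgroup.normalizer ((S : Subgroup L) : Set L), ∀ x ∈ W, l * x * l⁻¹ ∈ W := by
    intro l hl x hx
    rw [hWI] at hx ⊢
    exact hinv _ le_rfl ⟨A₀, hA₀, (hA A₀ hA₀).1⟩ l hl x hx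
  have hSW : ∀ s ∈ (S : Subgroup L), ∀ x ∈ W, s * x * s⁻¹ ∈ W :=
    fun s hs => hNS s (Subgroup.le_normalizer hs)
  set R := pCore p L with hR
  haveI hRn : R.Normal := pCore_normal p L
  have hRp : IsPGroup p R := CfsgLib.LocalP.isPGroup_pCore
  have hRS : R ≤ (S : Subgroup L) := hRp.le_sylow_of_normal S
  have hWn : ¬ W.Normal := by
    intro h
    rw [Subgroup.normalizer_eq_top_iff.2 h] at hN
    refine hco.1 (S.3 hN le_top).symm
  have hRne : R ≠ (S : Subgroup L) := by
    intro h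
    refine hWn ⟨fun x hx l => hNS l ?_ x hx⟩
    rw [← h, Subgroup.normalizer_eq_top_iff.2 hRn]
    exact Subgroup.mem_top l
  -- `L / R` has a normal `p`-complement
  set f := QuotientGroup.mk' R with hf
  have hfs : Function.Surjective f := QuotientGroup.mk'_surjective R
  set Sb := S.mapSurjective (f := f) hfs with hSb
  have hScomap : (Sb : Subgroup (L ⧸ R)).comap f = (S : Subgroup L) := by
    rw [hSb, Sylow.coe_mapSurjective, Subgroup.comap_map_eq, QuotientGroup.ker_mk', sup_eq_left.mpr hRS]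
  have hSb1 : (Sb : Subgroup (L ⧸ R)) ≠ ⊥ := by
    intro h
    refine hRne (le_antisymm hRS fun x hx => ?_)
    have h1 : x ∈ (Sb : Subgroup (L ⧸ R)).comap f := hScomap.ge hx
    rw [Subgroup.mem_comap, h, Subgroup.mem_bot] at h1
    exact (QuotientGroup.eq_one_iff x).1 h1
  have hLR : HasNormalPComplement p (L ⧸ R) := by
    let C := CfsgLib.GlaubermanZJ.abelianCenter.{u} p
    refine CfsgLib.GlaubermanZJ.hasNormalPComplement_of_obj hp C Sb ?_
    set V := C.obj (L ⧸ R) (Sb : Subgroup (L ⧸ R)) with hV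
    set N := Subgroup.normalizer (V : Set (L ⧸ R)) with hNdef
    have hSN : (S : Subgroup L) ≤ N.comap f := by
      rw [← hScomap]
      exact Subgroup.comap_mono (Subgroup.le_normalizer.trans (C.normalizer_le_normalizer_obj _))
    rcases hco.le_iff.mp hSN with h | h
    · have hVn : V.Normal := Subgroup.normalizer_eq_top_iff.1 (by
        rw [← hNdef, ← Subgroup.map_comap_eq_self_of_surjective hfs N, h,
          Subgroup.map_top_of_surjective _ hfs])
      have h1 := CfsgLib.LocalP.le_pCore hVn (Sb.2.to_le (C.obj_le _ _))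
      rw [CfsgLib.Constrained.pCore_quotient_pCore, le_bot_iff] at h1
      exact absurd h1 (C.obj_ne_bot _ _ Sb.2 hSb1)
    · have hNS' : N = (Sb : Subgroup (L ⧸ R)) := by
        rw [← Subgroup.map_comap_eq_self_of_surjective hfs N, h, hSb, Sylow.coe_mapSurjective]
      rw [hNS']
      exact CfsgLib.Transfer.hasNormalPComplement_of_isPGroup Sb.2
  have hst : CfsgLib.GlaubermanZJ.NoSL2Section p L :=
    (CfsgLib.Constrained.noSL2Section_of_maximal_sylow hp hLR S hco).2
  have hquad : ∀ (B : Subgroup L) [B.Normal], IsPGroup p B → ∀ a : L,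
      (∀ b ∈ B, ⁅⁅b, a⁆, a⁆ = 1) →
      (QuotientGroup.mk a : L ⧸ Subgroup.centralizer (B : Set L)) ∈
        pCore p (L ⧸ Subgroup.centralizer (B : Set L)) :=
    fun B _ hB a h => CfsgLib.GlaubermanZJ.mem_pCore_quotient_of_noSL2Section hst B hB h
  -- `W ≤ R`
  have hWR : W ≤ R := by
    intro w hw
    have h1 := hquad R hRp w fun b hb => by
      have h2 : ⁅b, w⁆ ∈ W := by
        rw [commutatorElement_def]
        exact mul_mem (hSW b (hRS hb) w hw) (inv_mem hw)
      exact commutatorElement_eq_one_iff_mul_comm.2 (hWab _ h2 w hw)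
    set C := Subgroup.centralizer (R : Set L) with hC
    set K := (pCore p (L ⧸ C)).comap (QuotientGroup.mk' C) with hK
    have hKn : K.Normal := (pCore_normal p (L ⧸ C)).comap _
    have hKp : IsPGroup p K := by
      refine CfsgLib.LocalP.isPGroup_pCore.comap_of_ker_isPGroup (QuotientGroup.mk' C) ?_
      rw [QuotientGroup.ker_mk']
      exact hRp.to_le hcon
    exact CfsgLib.LocalP.le_pCore hKn hKp h1
  -- the minimal normal subgroup of `R` with non-normal intersection
  obtain ⟨B, ⟨hBn, hBR, hWB⟩, hBmin⟩ := Set.Finite.exists_minimal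
    (s := {B : Subgroup L | B.Normal ∧ B ≤ R ∧ ¬ (W ⊓ B).Normal}) (Set.toFinite _)
    ⟨R, hRn, le_rfl, by rwa [inf_eq_left.2 hWR]⟩
  haveI := hBn
  have hgen : Subgroup.normalClosure ((W ⊓ B : Subgroup L) : Set L) = B := by
    have hle : Subgroup.normalClosure ((W ⊓ B : Subgroup L) : Set L) ≤ B :=
      Subgroup.normalClosure_le_normal inf_le_right
    refine le_antisymm hle (hBmin ⟨Subgroup.normalClosure_normal, hle.trans hBR, ?_⟩ hle)
    have e : W ⊓ Subgroup.normalClosure ((W ⊓ B : Subgroup L) : Set L) = W ⊓ B :=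
      le_antisymm (inf_le_inf_left W hle) (le_inf inf_le_left Subgroup.le_normalClosure)
    rwa [e]
  have hBS : B ≤ (S : Subgroup L) := hBR.trans hRS
  have hBp : IsPGroup p B := hS.to_le hBS
  have hB1 : B ≠ ⊥ := fun h => hWB (by rw [h, inf_bot_eq]; infer_instance)
  set D := ⁅B, B⁆ with hD
  have hDB : D ≤ B := Subgroup.commutator_le_left B B
  have hDne : D ≠ B := by
    intro h
    haveI : Group.IsNilpotent B := hBp.isNilpotent
    haveI : Nontrivial B := (Subgroup.nontrivial_iff_ne_bot B).2 hB1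
    refine (Group.IsSolvable.commutator_lt_top_of_nontrivial B).ne (Subgroup.map_injective B.subtype_injective ?_)
    rw [commutator_def, Subgroup.map_commutator, ← MonoidHom.range_eq_map, Subgroup.range_subtype, ← hD, h]
  haveI hDn : D.Normal := Subgroup.commutator_normal B B
  have hWD : (W ⊓ D).Normal := by
    by_contra h
    exact hDne (le_antisymm hDB (hBmin ⟨hDn, hDB.trans hBR, h⟩ hDB))
  -- `D ≤ W`
  have hDW : D ≤ W := by
    set g := QuotientGroup.mk' (W ⊓ D) with hg
    have hcomm : ∀ x ∈ Group.conjugatesOfSet ((W ⊓ B : Subgroup L) : Set L),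
        ∀ y ∈ Group.conjugatesOfSet ((W ⊓ B : Subgroup L) : Set L), g x * g y = g y * g x := by
      intro x hx y hy
      obtain ⟨w, hw, hwx⟩ := Group.mem_conjugatesOfSet_iff.1 hx
      obtain ⟨v, hv, hvy⟩ := Group.mem_conjugatesOfSet_iff.1 hy
      obtain ⟨a, rfl⟩ := isConj_iff.1 hwx
      obtain ⟨b, rfl⟩ := isConj_iff.1 hvy
      rw [← commutatorElement_eq_one_iff_mul_comm, ← map_commutatorElement, hg,
        QuotientGroup.mk'_apply, QuotientGroup.eq_one_iff]
      have hv' : a⁻¹ * b * v * (a⁻¹ * b)⁻¹ ∈ B := hBn.conj_mem v hv.2 _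
      have h1 : ⁅w, a⁻¹ * b * v * (a⁻¹ * b)⁻¹⁆ ∈ W ⊓ D := by
        refine ⟨?_, Subgroup.commutator_mem_commutator hw.2 hv'⟩
        rw [commutatorElement_def, mul_assoc w, mul_assoc w]
        exact mul_mem hw.1 (hSW _ (hBS hv') _ (inv_mem hw.1))
      have h2 := hWD.conj_mem _ h1 a
      convert h2 using 1
      simp only [commutatorElement_def]
      group
    have hmap : D.map g = ⊥ := by
      show ⁅B, B⁆.map g = ⊥
      rw [Subgroup.map_commutator, Subgroup.commutator_self_eq_bot_iff]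
      have e : B.map g = Subgroup.closure
          (g '' Group.conjugatesOfSet ((W ⊓ B : Subgroup L) : Set L)) := by
        rw [← MonoidHom.map_closure]
        exact congrArg (Subgroup.map g) hgen.symm
      rw [e]
      exact Subgroup.isMulCommutative_closure fun x hx y hy => by
        obtain ⟨x', hx', rfl⟩ := hx
        obtain ⟨y', hy', rfl⟩ := hy
        exact hcomm x' hx' y' hy'
    rw [Subgroup.map_eq_bot_iff, hg, QuotientGroup.ker_mk'] at hmap
    exact hmap.trans inf_le_left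
  -- `D` is central in `B`
  have hBB : ⁅⁅B, B⁆, B⁆ = ⊥ := by
    rw [Subgroup.commutator_eq_bot_iff_le_centralizer, Subgroup.le_centralizer_iff]
    have h1 : Subgroup.normalClosure ((W ⊓ B : Subgroup L) : Set L) ≤ Subgroup.centralizer (D : Set L) := by
      refine Subgroup.normalClosure_le_normal fun w hw => ?_
      exact Subgroup.mem_centralizer_iff.2 fun d hd => hWab d (hDW hd) w hw.1
    rwa [hgen] at h1
  obtain ⟨A, hA𝒜, hDA, hBA, hBNA⟩ := hrep B hBS hBB (by
    by_contra h
    push Not at h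
    refine hWB ?_
    have hBW : B ≤ W := le_sInf fun A hA' => h A hA' (hDW.trans (hWA A hA'))
    rwa [inf_eq_right.2 hBW])
  -- `A` acts quadratically on `B`
  set C := Subgroup.centralizer (B : Set L) with hC
  set K := (pCore p (L ⧸ C)).comap (QuotientGroup.mk' C) with hK
  haveI hKn : K.Normal := (pCore_normal p (L ⧸ C)).comap _
  have hAK : A ≤ K := fun a ha => hquad B hBp a fun b hb => by
    have h2 : ⁅b, a⁆ ∈ A := by
      rw [commutatorElement_def]
      exact mul_mem ((Subgroup.mem_normalizer_iff.1 (hBNA hb) a).1 ha) (inv_mem ha)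
    exact commutatorElement_eq_one_iff_mul_comm.2
      (congrArg Subtype.val ((hA A hA𝒜).2.is_comm.comm ⟨_, h2⟩ ⟨a, ha⟩))
  -- Frattini
  obtain ⟨P₁, hP₁⟩ := CfsgLib.GlaubermanZJ.exists_sylow_map_eq_inf S K
  set T := (P₁ : Subgroup K).map K.subtype with hT
  have hTS : T = (S : Subgroup L) ⊓ K := hP₁
  have hfrat : Subgroup.normalizer (T : Set L) ⊔ K = ⊤ := Sylow.normalizer_sup_eq_top P₁
  have hKC : K ≤ T ⊔ C := by
    have hC' : C ≤ K := fun c hc => by
      show QuotientGroup.mk' C c ∈ pCore p (L ⧸ C)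
      rw [QuotientGroup.mk'_apply, (QuotientGroup.eq_one_iff c).2 hc]
      exact one_mem _
    set φ := (QuotientGroup.mk' C).comp K.subtype with hφ
    have hφP : IsPGroup p φ.range := by
      refine CfsgLib.LocalP.isPGroup_pCore.to_le ?_
      rintro _ ⟨k, rfl⟩
      exact k.2
    let P₂ : Sylow p φ.range := P₁.mapSurjective (f := φ.rangeRestrict) φ.rangeRestrict_surjective
    have h1 : (P₂ : Subgroup φ.range) = ⊤ := (P₂.3 (hφP.to_subgroup ⊤) le_top).symm
    intro k hk
    have h2 : φ.rangeRestrict ⟨k, hk⟩ ∈ (P₁ : Subgroup K).map φ.rangeRestrict := by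
      rw [← Sylow.coe_mapSurjective φ.rangeRestrict_surjective P₁]
      exact h1 ▸ Subgroup.mem_top _
    obtain ⟨t, ht, hte⟩ := h2
    have h3 : (t : L)⁻¹ * k ∈ C := by
      rw [← QuotientGroup.eq]
      exact congrArg Subtype.val hte
    have : k = (t : L) * ((t : L)⁻¹ * k) := by group
    rw [this]
    exact mul_mem (Subgroup.mem_sup_left ⟨t, ht, rfl⟩) (Subgroup.mem_sup_right h3)
  have htop : Subgroup.normalizer (T : Set L) ⊔ C = ⊤ := by
    rw [eq_top_iff, ← hfrat]
    exact sup_le le_sup_left (hKC.trans (sup_le_sup_right Subgroup.le_normalizer C))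
  have hAT : A ≤ T := hTS ▸ le_inf (hA A hA𝒜).1 hAK
  set J := interIn 𝒜 T with hJ
  have hTleS : T ≤ (S : Subgroup L) := hTS ▸ inf_le_left
  have hJBn : (J ⊓ B).Normal := by
    rw [← Subgroup.normalizer_eq_top_iff, eq_top_iff, ← htop]
    refine sup_le (fun l hl => ?_) (fun c hc => ?_)
    · rw [Subgroup.mem_normalizer_iff_map_conj_eq]
      refine Subgroup.eq_of_le_of_card_ge ?_
        (Subgroup.card_map_of_injective (MulAut.conj l).injective).ge
      rintro _ ⟨x, hx, rfl⟩
      exact ⟨hinv T hTleS ⟨A, hA𝒜, hAT⟩ l hl x hx.1, hBn.conj_mem x hx.2 l⟩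
    · refine Subgroup.centralizer_le_normalizer _ (Subgroup.mem_centralizer_iff.2 fun x hx => ?_)
      exact Subgroup.mem_centralizer_iff.1 hc x hx.2
  have hBJ : B ≤ J := by
    rw [← hgen]
    refine (Subgroup.normalClosure_le_normal (N := J ⊓ B) ?_).trans inf_le_left
    exact fun w hw => ⟨Subgroup.mem_sInf.2 fun A' hA' => hWA A' hA'.1 hw.1, hw.2⟩
  exact hBA (hBJ.trans (sInf_le ⟨hA𝒜, hAT⟩))

end CfsgLib.AxThompson
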