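import Cfsg.Agent.AxiomThompson.Fusion
import Cfsg.Agent.AxiomThompson.Group

/-!
The axiomatic Glauberman–Thompson nilpotency criterion for fusion systems.
-/

set_option autoImplicit false

namespace CfsgLib.AxThompson

open Cfsg Cfsg.FusionSystem CfsgLib.Fus
open scoped commutatorElement

universe u

variable {Ω : Type u} [Group Ω] {S : Subgroup Ω} [Finite S] {p : ℕ} [Fact p.Prime]

omit [Fact p.Prime] in
/-- The normalizer system of any subgroup of an inner system is inner. -/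
theorem normalizerSystem_inner {F : Cfsg.FusionSystem S} {I : Subgroup Ω} (hI : I ≤ S)
    (hF : ∀ P : Subgroup Ω, F.Hom P = (Cfsg.innerFusionSystem S).Hom P)
    (N : Cfsg.FusionSystem (normalizerIn S I)) (hN : F.IsNormalizerSystem I N) (P : Subgroup Ω) :
    N.Hom P = (Cfsg.innerFusionSystem (normalizerIn S I)).Hom P := by
  ext φ
  constructor
  · intro hφ
    rw [hN P] at hφ
    obtain ⟨-, hP, -, ψ, hψ, hext, hψI⟩ := hφ
    rw [hF] at hψ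
    obtain ⟨-, h, hhS, hh⟩ := hψ
    refine ⟨hP, h, ⟨hhS, ?_⟩, fun x => ?_⟩
    · show h ∈ Subgroup.normalizer (I : Set Ω)
      haveI : Finite I := finite_of_le hI
      rw [Subgroup.mem_normalizer_iff_map_conj_eq]
      refine Subgroup.eq_of_le_of_card_ge ?_
        (Subgroup.card_map_of_injective (MulAut.conj h).injective).ge
      rintro _ ⟨x, hx, rfl⟩
      show h * x * h⁻¹ ∈ I
      rw [← hh ⟨x, Subgroup.mem_sup_right hx⟩]
      exact hψI.le ⟨⟨x, Subgroup.mem_sup_right hx⟩, hx, rfl⟩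
    · rw [← hext, hh]
      rfl
  · rintro ⟨hP, h, hh, hhx⟩
    exact hom_congr N (N.conj_mem hP hh) fun x => by rw [hhx, conjHom_apply]

/-- The converse direction of the criterion. -/
theorem eq_inner_of_normalizer_inner (hp : p ≠ 2) (hS : IsPGroup p S) {F : Cfsg.FusionSystem S}
    (hF : F.IsSaturated p) (𝒜 : Set (Subgroup Ω)) (h𝒜 : ∀ A ∈ 𝒜, A ≤ S ∧ IsMulCommutative A)
    (hne : 𝒜.Nonempty)
    (hinv : ∀ Q : Subgroup Ω, Q ≤ S → (∃ A ∈ 𝒜, A ≤ Q) → ∀ α ∈ F.autGroup Q, ∀ x : Q,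
      (x : Ω) ∈ (⨅ A ∈ {A : Subgroup Ω | A ∈ 𝒜 ∧ A ≤ Q}, A) →
      (((α : MulAut Q) x : Q) : Ω) ∈ (⨅ A ∈ {A : Subgroup Ω | A ∈ 𝒜 ∧ A ≤ Q}, A))
    (hrep : ∀ B : Subgroup Ω, B ≤ S → ⁅⁅B, B⁆, B⁆ = ⊥ → (∃ A ∈ 𝒜, ⁅B, B⁆ ≤ A ∧ ¬ B ≤ A) →
      ∃ A ∈ 𝒜, ⁅B, B⁆ ≤ A ∧ ¬ B ≤ A ∧ B ≤ Subgroup.normalizer (A : Set Ω))
    (hN : ∀ N : Cfsg.FusionSystem (normalizerIn S (⨅ A ∈ 𝒜, A)), F.IsNormalizerSystem (⨅ A ∈ 𝒜, A) N →
      ∀ P : Subgroup Ω, N.Hom P =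
        (Cfsg.innerFusionSystem (normalizerIn S (⨅ A ∈ 𝒜, A))).Hom P) :
    ∀ P : Subgroup Ω, F.Hom P = (Cfsg.innerFusionSystem S).Hom P := by
  classical
  by_contra hF0
  obtain ⟨A₀, hA₀⟩ := hne
  set I₀ : Subgroup Ω := ⨅ A ∈ 𝒜, A with hI₀
  have hI₀A : ∀ A ∈ 𝒜, I₀ ≤ A := fun A hA => iInf₂_le A hA
  have hI₀S : I₀ ≤ S := (hI₀A A₀ hA₀).trans (h𝒜 A₀ hA₀).1
  have hmemI : ∀ (x : Ω) (Q : Subgroup Ω),
      x ∈ (⨅ A ∈ {A : Subgroup Ω | A ∈ 𝒜 ∧ A ≤ Q}, A) ↔ ∀ A ∈ 𝒜, A ≤ Q → x ∈ A := by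
    intro x Q
    simp [Subgroup.mem_iInf]
  have hSI : S ≤ Subgroup.normalizer (I₀ : Set Ω) := by
    intro s hs
    haveI : Finite I₀ := finite_of_le hI₀S
    rw [Subgroup.mem_normalizer_iff_map_conj_eq]
    refine Subgroup.eq_of_le_of_card_ge ?_
      (Subgroup.card_map_of_injective (MulAut.conj s).injective).ge
    rintro _ ⟨x, hx, rfl⟩
    have hxS : x ∈ S := hI₀S hx
    have h1 := hinv S le_rfl ⟨A₀, hA₀, (h𝒜 A₀ hA₀).1⟩ (conjAut (Subgroup.le_normalizer hs))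
      (autInducedBy_le_autGroup F le_rfl (conjAut_mem_autInducedBy (Subgroup.le_normalizer hs) hs)) ⟨x, hxS⟩
      ((hmemI x S).2 fun A hA _ => hI₀A A hA hx)
    rw [conjAut_apply] at h1
    rw [hI₀]
    exact Subgroup.mem_iInf.2 fun A => Subgroup.mem_iInf.2 fun hA => (hmemI _ S).1 h1 A hA (h𝒜 A hA).1
  obtain ⟨Q, hQc, hQn, hQS, hQb⟩ := exists_normal_centric_bad hp hS hF hF0
  obtain ⟨L, iL, ι, hmod⟩ := CfsgLib.FusModel.exists_local_model hS hF hQn hQc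
  have hnp := not_isPGroup_model (F := F) hQn.1 hQb hmod
  obtain ⟨hfin, ⟨hinj, hreal⟩, ⟨T, hT⟩, hcon⟩ := id hmod
  haveI := hfin
  have hNS : normalizerIn S Q ≤ S := normalizerIn_le Q
  have hSN : S ≤ normalizerIn S Q := hQS.ge
  have hAN : ∀ A ∈ 𝒜, A ≤ normalizerIn S Q := fun A hA => (h𝒜 A hA).1.trans hSN
  -- no element of order prime to `p` normalizes the image of the intersection
  have key : ∀ g : L, g ∈ Subgroup.normalizer (((I₀.subgroupOf (normalizerIn S Q)).map ι : Subgroup L) : Set L) →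
      (orderOf g).Coprime p → g = 1 := by
    intro g hg hgp
    set R := pCore p L with hR
    have hRι : R ≤ ι.range := hT ▸ CfsgLib.CharP.pCore_le_sylow T
    haveI : R.Normal := pCore_normal p L
    set X : Subgroup Ω := (R.comap ι).map (normalizerIn S Q).subtype with hX
    have hXN : X ≤ normalizerIn S Q := Subgroup.map_subtype_le _
    have hYN : X ⊔ I₀ ≤ normalizerIn S Q := sup_le hXN (hI₀S.trans hSN)
    have hXimg : ∀ x : X, ι ⟨x, hXN x.2⟩ ∈ R := by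
      rintro ⟨_, y, hy, rfl⟩
      exact hy
    set K : Subgroup L := R ⊔ (I₀.subgroupOf (normalizerIn S Q)).map ι with hK
    have hKι : K ≤ ι.range := sup_le hRι (Subgroup.map_le_range _ _)
    have hgK : g ∈ Subgroup.normalizer (K : Set L) := by
      rw [Subgroup.mem_normalizer_iff_map_conj_eq, hK, Subgroup.map_sup,
        Subgroup.mem_normalizer_iff_map_conj_eq.1 hg,
        Subgroup.mem_normalizer_iff_map_conj_eq.1
          (Subgroup.normalizer_eq_top_iff.2 (inferInstance : R.Normal) ▸ Subgroup.mem_top g)]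
    have hY : ∀ y : (X ⊔ I₀ : Subgroup Ω), ι ⟨y, hYN y.2⟩ ∈ K := by
      intro y
      have hle : (X ⊔ I₀).subgroupOf (normalizerIn S Q) ≤ K.comap ι := by
        rw [Subgroup.subgroupOf_sup hXN (hI₀S.trans hSN)]
        refine sup_le (fun x hx => Subgroup.mem_sup_left (hXimg ⟨x, hx⟩)) fun x hx => ?_
        exact Subgroup.mem_sup_right ⟨x, hx, rfl⟩
      exact hle (show (⟨y, hYN y.2⟩ : (normalizerIn S Q)) ∈ (X ⊔ I₀).subgroupOf (normalizerIn S Q) from y.2)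
    obtain ⟨θ, hθ⟩ := exists_conjBack hinj hYN (g := g)
      fun y => hKι ((Subgroup.mem_normalizer_iff.1 hgK _).1 (hY y))
    set ψ : (X ⊔ I₀ : Subgroup Ω) →* Ω := (normalizerIn S Q).subtype.comp θ with hψdef
    have hψ : ψ ∈ F.Hom (X ⊔ I₀) :=
      ((hreal _ hYN ψ fun y => (θ y).2).2 ⟨g, fun y => hθ y⟩).1
    have hψI : (I₀.subgroupOf (X ⊔ I₀)).map ψ = I₀ := by
      haveI : Finite I₀ := finite_of_le hI₀S
      refine Subgroup.eq_of_le_of_card_ge ?_ ?_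
      · rintro _ ⟨y, hy, rfl⟩
        have h1 := (Subgroup.mem_normalizer_iff.1 hg _).1 ⟨⟨y, hYN y.2⟩, hy, rfl⟩
        rw [← hθ] at h1
        obtain ⟨z, hz, hze⟩ := h1
        have hz' : (z : Ω) ∈ I₀ := hz
        rw [hinj hze] at hz'
        exact hz'
      · rw [Subgroup.card_map_of_injective (F.injective_of_mem hψ),
          Nat.card_congr (Subgroup.subgroupOfEquivOfLe (le_sup_right : I₀ ≤ X ⊔ I₀)).toEquiv]
    have hφ : ψ.comp (Subgroup.inclusion le_sup_left) ∈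
        (normalizerSystem F I₀ hI₀S).Hom X :=
      ⟨restrict_mem F hψ le_sup_left, fun x hx => ⟨hNS (hXN hx), hSI (hNS (hXN hx))⟩,
        fun x => ⟨hom_mem F hψ _, hSI (hom_mem F hψ _)⟩, ψ, hψ, fun x => rfl, hψI⟩
    rw [hN (normalizerSystem F I₀ hI₀S) (fun _ => rfl)] at hφ
    obtain ⟨-, s, hs, hsx⟩ := hφ
    have hsN : s ∈ normalizerIn S Q := hSN hs.1
    have hc : (ι ⟨s, hsN⟩)⁻¹ * g ∈ R := hcon (Subgroup.mem_centralizer_iff.2 fun r hr => by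
      obtain ⟨x, rfl⟩ := hRι hr
      have hxX : (x : Ω) ∈ X := ⟨x, hr, rfl⟩
      have h1 : ι (θ ⟨x, Subgroup.mem_sup_left hxX⟩) = g * ι x * g⁻¹ := hθ _
      have h2 : θ ⟨x, Subgroup.mem_sup_left hxX⟩ = ⟨s, hsN⟩ * x * ⟨s, hsN⟩⁻¹ :=
        Subtype.ext (hsx ⟨x, hxX⟩)
      rw [h2, map_mul, map_mul, map_inv] at h1
      calc ι x * ((ι ⟨s, hsN⟩)⁻¹ * g) = (ι ⟨s, hsN⟩)⁻¹ * (ι ⟨s, hsN⟩ * ι x * (ι ⟨s, hsN⟩)⁻¹) * g := by group
        _ = (ι ⟨s, hsN⟩)⁻¹ * (g * ι x * g⁻¹) * g := by rw [h1]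
        _ = (ι ⟨s, hsN⟩)⁻¹ * g * ι x := by group)
    have hgT : g ∈ ι.range := by
      have := mul_mem (show ι ⟨s, hsN⟩ ∈ ι.range from ⟨_, rfl⟩) (hRι hc)
      rwa [mul_inv_cancel_left] at this
    refine CfsgLib.Transfer.eq_one_of_mem_pGroup_of_coprime T.2 (hT ▸ hgT) hgp
  -- a minimal overgroup of the image of `S`
  have hne' : {H : Subgroup L | ι.range < H}.Nonempty := by
    refine ⟨⊤, show ι.range < ⊤ from lt_top_iff_ne_top.2 fun h => hnp fun g => ?_⟩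
    obtain ⟨k, hk⟩ := T.2 ⟨g, by rw [hT, h]; exact Subgroup.mem_top g⟩
    exact ⟨k, congrArg Subtype.val hk⟩
  obtain ⟨H, hH, hHmin⟩ := Set.Finite.exists_minimal (Set.toFinite _) hne'
  have hH' : ι.range < H := hH
  clear hH
  rename' hH' => hH
  have hιH : ∀ x, ι x ∈ H := fun x => hH.le ⟨x, rfl⟩
  set j : (normalizerIn S Q) →* H := ι.codRestrict H hιH with hjdef
  have hj : Function.Injective j := fun a b hab => hinj (congrArg Subtype.val hab :)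
  have hjr : j.range = ι.range.subgroupOf H := by
    ext y
    constructor
    · rintro ⟨x, rfl⟩; exact ⟨x, rfl⟩
    · rintro ⟨x, hx⟩; exact ⟨x, Subtype.ext hx⟩
  let T' : Sylow p H := T.subtype (hT ▸ hH.le)
  have hT' : (T' : Subgroup H) = j.range := by rw [Sylow.coe_subtype, hjr, hT]
  have hco : IsCoatom (T' : Subgroup H) := by
    rw [hT', hjr]
    refine ⟨fun h => not_le_of_gt hH (Subgroup.subgroupOf_eq_top.1 h), fun M hM => ?_⟩
    have h1 : ι.range < M.map H.subtype := by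
      rw [← Subgroup.map_subgroupOf_eq_of_le hH.le]
      exact Subgroup.map_lt_map_iff_of_injective H.subtype_injective |>.2 hM
    have h2 := hHmin h1 (Subgroup.map_subtype_le M)
    exact Subgroup.map_injective H.subtype_injective
      (by rw [← MonoidHom.range_eq_map, Subgroup.range_subtype]; exact le_antisymm (Subgroup.map_subtype_le M) h2)
  have hconH : Subgroup.centralizer (pCore p H : Set H) ≤ pCore p H := by
    intro x hx
    have hRn : (pCore p L).Normal := pCore_normal p L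
    have hRH : pCore p L ≤ H := (hT ▸ CfsgLib.CharP.pCore_le_sylow T).trans hH.le
    have hle : (pCore p L).subgroupOf H ≤ pCore p H :=
      CfsgLib.LocalP.le_pCore (hRn.subgroupOf H)
        ((CfsgLib.LocalP.isPGroup_pCore (p := p) (G := L)).comap_of_injective _ H.subtype_injective)
    refine hle (show (x : L) ∈ pCore p L from hcon (Subgroup.mem_centralizer_iff.2 fun r hr => ?_))
    exact congrArg Subtype.val (Subgroup.mem_centralizer_iff.1 hx ⟨r, hRH hr⟩ (hle hr))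
  -- transport of the family
  let Φ : Subgroup Ω → Subgroup H := fun A => (A.subgroupOf (normalizerIn S Q)).map j
  have hΦmem : ∀ (A : Subgroup Ω) (z : (normalizerIn S Q)), j z ∈ Φ A ↔ (z : Ω) ∈ A := fun A z => by
    constructor
    · rintro ⟨y, hy, hyz⟩
      exact hj hyz ▸ hy
    · exact fun h => ⟨z, h, rfl⟩
  have hΦle : ∀ A B : Subgroup Ω, A ≤ (normalizerIn S Q) → (Φ A ≤ Φ B ↔ A ≤ B) := fun A B hA => by
    refine ⟨fun h a ha => ?_, fun h => ?_⟩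
    · exact (hΦmem B ⟨a, hA ha⟩).1 (h ((hΦmem A ⟨a, hA ha⟩).2 ha))
    · exact Subgroup.map_mono (Subgroup.comap_mono h)
  set 𝒜' : Set (Subgroup H) := Φ '' 𝒜 with h𝒜'
  have hW : sInf 𝒜' = Φ I₀ := by
    refine le_antisymm (fun y hy => ?_) (le_sInf ?_)
    · obtain ⟨z, -, rfl⟩ := Subgroup.mem_sInf.1 hy _ ⟨A₀, hA₀, rfl⟩
      refine (hΦmem I₀ z).2 ?_
      exact Subgroup.mem_iInf.2 fun A => Subgroup.mem_iInf.2 fun hA =>
        (hΦmem A z).1 (Subgroup.mem_sInf.1 hy _ ⟨A, hA, rfl⟩)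
    · rintro _ ⟨A, hA, rfl⟩
      exact Subgroup.map_mono (Subgroup.comap_mono (hI₀A A hA))
  have hΦpre : ∀ Q' : Subgroup H, Q' ≤ j.range → Φ ((Q'.comap j).map (normalizerIn S Q).subtype) = Q' := fun Q' hQ' => by
    show ((((Q'.comap j).map (normalizerIn S Q).subtype).subgroupOf (normalizerIn S Q))).map j = Q'
    rw [Subgroup.subgroupOf, Subgroup.comap_map_eq_self_of_injective (normalizerIn S Q).subtype_injective, Subgroup.map_comap_eq,
      inf_eq_right.2 hQ']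
  refine false_of_coatom hp hconH T' hco 𝒜' ?_ ⟨_, A₀, hA₀, rfl⟩ ?_ ?_ ?_
  · rintro _ ⟨A, hA, rfl⟩
    refine ⟨hT' ▸ Subgroup.map_le_range _ _, ⟨⟨?_⟩⟩⟩
    rintro ⟨_, a, ha, rfl⟩ ⟨_, b, hb, rfl⟩
    refine Subtype.ext ?_
    show j a * j b = j b * j a
    rw [← map_mul, ← map_mul]
    exact congrArg j (Subtype.ext (congrArg Subtype.val ((h𝒜 A hA).2.is_comm.comm ⟨a, ha⟩ ⟨b, hb⟩) :))
  · intro Q' hQ' hQA l hl x hx
    rw [hT'] at hQ'
    set Q₀ : Subgroup Ω := (Q'.comap j).map (normalizerIn S Q).subtype with hQ₀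
    have hQ₀N : Q₀ ≤ normalizerIn S Q := Subgroup.map_subtype_le _
    have hQ₀S : Q₀ ≤ S := hQ₀N.trans hNS
    have hQ₀' : Φ Q₀ = Q' := hΦpre Q' hQ'
    have hrange : ∀ y : Q₀, (l : L) * ι ⟨y, hQ₀N y.2⟩ * (l : L)⁻¹ ∈ ι.range := fun y => by
      have h1 : j ⟨y, hQ₀N y.2⟩ ∈ Q' := hQ₀' ▸ (hΦmem Q₀ _).2 y.2
      obtain ⟨z, hz⟩ := hQ' ((Subgroup.mem_normalizer_iff.1 hl _).1 h1)
      exact ⟨z, congrArg Subtype.val hz⟩
    obtain ⟨θ, hθ⟩ := exists_conjBack hinj hQ₀N hrange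
    have hθj : ∀ y : Q₀, j (θ y) = l * j ⟨y, hQ₀N y.2⟩ * l⁻¹ := fun y => Subtype.ext (hθ y)
    have hθQ : ∀ y : Q₀, (θ y : Ω) ∈ Q₀ := fun y => by
      rw [← hΦmem Q₀, hQ₀', hθj]
      exact (Subgroup.mem_normalizer_iff.1 hl _).1 (hQ₀' ▸ (hΦmem Q₀ _).2 y.2)
    have hφ : (normalizerIn S Q).subtype.comp θ ∈ F.Hom Q₀ :=
      ((hreal Q₀ hQ₀N ((normalizerIn S Q).subtype.comp θ) fun y => (θ y).2).2 ⟨(l : L), fun y => hθ y⟩).1
    haveI : Finite Q₀ := finite_of_le hQ₀S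
    have hr : ((normalizerIn S Q).subtype.comp θ).range = Q₀ := by
      refine Subgroup.eq_of_le_of_card_ge (by rintro _ ⟨y, rfl⟩; exact hθQ y) ?_
      exact le_of_eq (Nat.card_congr (MonoidHom.ofInjective (F.injective_of_mem hφ)).toEquiv)
    obtain ⟨A', hA', hA'Q⟩ := hQA
    obtain ⟨A, hA, rfl⟩ := hA'
    have hAQ : A ≤ Q₀ := (hΦle A Q₀ (hAN A hA)).1 (hQ₀'.symm ▸ hA'Q)
    obtain ⟨z, rfl⟩ : x ∈ j.range :=
      Subgroup.map_le_range j _ (Subgroup.mem_sInf.1 hx _ ⟨⟨A, hA, rfl⟩, hA'Q⟩)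
    have hzQ : (z : Ω) ∈ Q₀ :=
      hAQ ((hΦmem A z).1 (Subgroup.mem_sInf.1 hx _ ⟨⟨A, hA, rfl⟩, hA'Q⟩))
    have h1 := hinv Q₀ hQ₀S ⟨A, hA, hAQ⟩ _ (isoOf_mem_autGroup hφ hr) ⟨z, hzQ⟩ ((hmemI _ Q₀).2 fun B hB hBQ =>
      (hΦmem B z).1 (Subgroup.mem_sInf.1 hx _ ⟨⟨B, hB, rfl⟩, hQ₀' ▸ (hΦle B Q₀ (hAN B hB)).2 hBQ⟩))
    rw [isoOf_apply] at h1
    refine Subgroup.mem_sInf.2 ?_
    rintro _ ⟨⟨B, hB, rfl⟩, hBQ⟩
    rw [show l * j z * l⁻¹ = j (θ ⟨z, hzQ⟩) from (hθj ⟨z, hzQ⟩).symm, hΦmem]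
    exact (hmemI _ Q₀).1 h1 B hB ((hΦle B Q₀ (hAN B hB)).1 (hQ₀'.symm ▸ hBQ))
  · intro B hB hBB hex
    rw [hT'] at hB
    set K := B.comap j with hK
    set B₀ : Subgroup Ω := K.map (normalizerIn S Q).subtype with hB₀
    have hB₀N : B₀ ≤ normalizerIn S Q := Subgroup.map_subtype_le _
    have hB₀' : Φ B₀ = B := hΦpre B hB
    have hKB : K.map j = B := by rw [hK, Subgroup.map_comap_eq, inf_eq_right.2 hB]
    have hcomm : Φ ⁅B₀, B₀⁆ = ⁅B, B⁆ := by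
      show (⁅B₀, B₀⁆.subgroupOf (normalizerIn S Q)).map j = ⁅B, B⁆
      rw [hB₀, ← Subgroup.map_commutator, Subgroup.subgroupOf,
        Subgroup.comap_map_eq_self_of_injective (normalizerIn S Q).subtype_injective, Subgroup.map_commutator, hKB]
    have hcN : ⁅B₀, B₀⁆ ≤ normalizerIn S Q := Subgroup.commutator_le.2 fun a ha b hb => by
      rw [commutatorElement_def]
      exact mul_mem (mul_mem (mul_mem (hB₀N ha) (hB₀N hb)) (inv_mem (hB₀N ha))) (inv_mem (hB₀N hb))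
    have hBB₀ : ⁅⁅B₀, B₀⁆, B₀⁆ = ⊥ := by
      rw [← hKB, ← Subgroup.map_commutator, ← Subgroup.map_commutator,
        Subgroup.map_eq_bot_iff_of_injective _ hj] at hBB
      rw [hB₀, ← Subgroup.map_commutator, ← Subgroup.map_commutator, hBB, Subgroup.map_bot]
    obtain ⟨A', hA', hcA, hBA⟩ := hex
    obtain ⟨A, hA, rfl⟩ := hA'
    obtain ⟨A₁, hA₁, hc₁, hB₁, hn₁⟩ := hrep B₀ (hB₀N.trans hNS) hBB₀
      ⟨A, hA, (hΦle _ A hcN).1 (hcomm.symm ▸ hcA), fun h => hBA (hB₀' ▸ (hΦle B₀ A hB₀N).2 h)⟩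
    refine ⟨Φ A₁, ⟨A₁, hA₁, rfl⟩, hcomm ▸ (hΦle _ A₁ hcN).2 hc₁,
      fun h => hB₁ ((hΦle B₀ A₁ hB₀N).1 (hB₀'.symm ▸ h)), ?_⟩
    rw [← hB₀']
    rintro _ ⟨b, hb, rfl⟩
    refine Subgroup.le_normalizer_map j ⟨b, ?_, rfl⟩
    show b ∈ Subgroup.normalizer ((A₁.subgroupOf (normalizerIn S Q) : Subgroup (normalizerIn S Q)) : Set (normalizerIn S Q))
    exact Subgroup.mem_normalizer_iff.2 fun y => Subgroup.mem_normalizer_iff.1 (hn₁ hb) (y : Ω)
  · rw [hW]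
    refine CfsgLib.LocalP.isPGroup_of_forall_coprime _ fun y hyN hy => ?_
    have h1 : (y : L) ∈ Subgroup.normalizer (((I₀.subgroupOf (normalizerIn S Q)).map ι : Subgroup L) : Set L) := by
      have := Subgroup.le_normalizer_map H.subtype ⟨y, hyN, rfl⟩
      rwa [show (Φ I₀).map H.subtype = (I₀.subgroupOf (normalizerIn S Q)).map ι from Subgroup.map_map _ _ _] at this
    exact Subtype.ext (key _ h1 (by rwa [Subgroup.orderOf_coe]))

end CfsgLib.AxThompson
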